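import Cfsg.Agent.H464.RM.Tools
import Cfsg.Agent.H171.RM.Count
import Cfsg.Agent.H171.RM.GL
import Cfsg.Agent.H171.Odd.CoRows
import Cfsg.Agent.H171.Odd.CoRowsB
import Cfsg.Agent.H848.McLLocal
import Cfsg.Agent.H555.RV.Crit
import Cfsg.Agent.H212.SuzFive.Row
import Cfsg.Agent.H845.HNSeven
import Cfsg.Agent.H710.Spor.HNMix
import Cfsg.Agent.H704.Spor49.Harada
import Cfsg.Agent.NotCT.Orders
import Cfsg.Agent.S1701

/-!
# S3849, P11: `McL`, `Suz`, `HN`: the pairs of type CENT (helper469)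
-/

set_option autoImplicit false
set_option maxRecDepth 100000

namespace Cfsg.Agent.H469.RM

open Cfsg Subgroup Cfsg.Agent.H571.DExt Cfsg.Agent.H555.RV Cfsg.Agent.H464.RM

universe u

variable {S : Type u} [Group S] [Finite S]

namespace McLRow

theorem hc : Nat.card Spor.McL = 898128000 := NotCT.Orders.mcl ⟨MulEquiv.refl _⟩

theorem p37 : ¬ Dom ({3, 7} : Set ℕ) Spor.McL := by
  have := H848.McLLocal.facts.1
  have := H848.McLLocal.facts.2.1
  obtain ⟨x, hx, hcx⟩ := H848.McLLocal.mcl_seven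
  exact nd_cent (a := 6) Nat.prime_three (by norm_num) (by norm_num) hc hx hcx (by decide +kernel)

theorem p3_11 : ¬ Dom ({3, 11} : Set ℕ) Spor.McL := by
  have := H848.McLLocal.facts.1
  have := H848.McLLocal.facts.2.1
  obtain ⟨x, hx, hcx⟩ := H848.McLLocal.mcl_eleven
  exact nd_cent (a := 6) Nat.prime_three (by norm_num) (by norm_num) hc hx hcx (by decide +kernel)

end McLRow

theorem no_mcl_3_7 (h : Spor.IsoMcL S) : ¬ Dom ({3, 7} : Set ℕ) S := by
  obtain ⟨e⟩ := h
  exact fun hD => McLRow.p37 (dom_equiv e hD)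

theorem no_mcl_3_11 (h : Spor.IsoMcL S) : ¬ Dom ({3, 11} : Set ℕ) S := by
  obtain ⟨e⟩ := h
  exact fun hD => McLRow.p3_11 (dom_equiv e hD)

theorem inv_mcl_3 (h : Spor.IsoMcL S) : H171.Odd.Inv1 3 5 S := by
  have hc := NotCT.Orders.mcl h
  obtain ⟨e⟩ := h
  exact H171.Odd.Conway.tab ((Subgroup.inclusion H171.Odd.Conway.mcl_le).comp e.toMonoidHom)
      ((Subgroup.inclusion_injective H171.Odd.Conway.mcl_le).comp e.injective) PreUniqCo.Rows.leechU_ne (fun g => (e g).2.2)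
      (by rw [hc]; norm_num) (by rw [hc]; norm_num) (by rw [hc]; norm_num) (by rw [hc]; norm_num) (3, 5) (by simp)

theorem no_mcl_3_5 (h : Spor.IsoMcL S) : ¬ Dom ({3, 5} : Set ℕ) S :=
  nd_of (no_gl (a := 6) (b := 3) (m := 9856) Nat.prime_three Nat.prime_five (by norm_num)
    (by rw [NotCT.Orders.mcl h]; norm_num) (by norm_num) (by norm_num) (inv_mcl_3 h) H171.RM.w5
    (H171.RM.hw5 (by norm_num)) (by decide))

/-! ### `Suz` -/

namespace SuzRow

theorem hc : Nat.card Spor.Suz = 448345497600 := NotCT.Orders.suz ⟨MulEquiv.refl _⟩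

theorem hfin : Finite Spor.Suz := Nat.finite_of_card_ne_zero (by rw [hc]; norm_num)

theorem hs : IsSimpleGroup Spor.Suz := S1694.result.1

theorem exists_order {r : ℕ} (hr : r.Prime) (hd : r ∣ 448345497600) : ∃ z : Spor.Suz, orderOf z = r := by
  have := hfin
  have : Fact r.Prime := ⟨hr⟩
  exact exists_prime_orderOf_dvd_card' r (by rw [hc]; exact hd)

theorem p37 : ¬ Dom ({3, 7} : Set ℕ) Spor.Suz := by
  have := hfin
  have := hs
  obtain ⟨x, hx⟩ := exists_order (r := 7) (by norm_num) (by norm_num)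
  have h1 : Nat.card (centralizer ({x} : Set Spor.Suz)) = 84 := by
    have h2 := (H212.SuzFive.data7 (R := zpowers x) (by rw [Nat.card_zpowers, hx])).1
    rw [← h2]
    congr 2
    rw [zpowers_eq_closure, centralizer_closure]
  exact nd_cent (a := 7) Nat.prime_three (by norm_num) (by norm_num) hc hx h1 (by decide +kernel)

theorem p3_11 : ¬ Dom ({3, 11} : Set ℕ) Spor.Suz := by
  have := hfin
  have := hs
  obtain ⟨x, hx⟩ := exists_order (r := 11) (by norm_num) (by norm_num)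
  have h1 : Nat.card (centralizer ({x} : Set Spor.Suz)) = 11 := by
    have h2 := (H212.SuzFive.data11 (R := zpowers x) (by rw [Nat.card_zpowers, hx])).1
    rw [← h2]
    congr 2
    rw [zpowers_eq_closure, centralizer_closure]
  exact nd_cent (a := 7) Nat.prime_three (by norm_num) (by norm_num) hc hx h1 (by decide +kernel)

end SuzRow

theorem no_suz_3_7 (h : Spor.IsoSuz S) : ¬ Dom ({3, 7} : Set ℕ) S := by
  obtain ⟨e⟩ := h
  exact fun hD => SuzRow.p37 (dom_equiv e hD)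

theorem no_suz_3_11 (h : Spor.IsoSuz S) : ¬ Dom ({3, 11} : Set ℕ) S := by
  obtain ⟨e⟩ := h
  exact fun hD => SuzRow.p3_11 (dom_equiv e hD)

theorem no_suz_3_5 (h : Spor.IsoSuz S) : ¬ Dom ({3, 5} : Set ℕ) S :=
  nd_of (no_gl (a := 7) (b := 2) (m := 8200192) Nat.prime_three Nat.prime_five (by norm_num)
    (by rw [NotCT.Orders.suz h]; norm_num) (by norm_num) (by norm_num) (H171.Odd.inv_suz h).1 H171.RM.w5
    (H171.RM.hw5 (by norm_num)) (by decide))

/-! ### `HN` -/

namespace HNRow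

theorem hc : Nat.card Spor.HN = 273030912000000 := NotCT.Orders.hn ⟨MulEquiv.refl _⟩

theorem hfin : Finite Spor.HN := Nat.finite_of_card_ne_zero (by rw [hc]; norm_num)

theorem hs : IsSimpleGroup Spor.HN := Cfsg.Agent.S1701.result.1

theorem seven : ∃ y : Spor.HN, orderOf y = 7 ∧ Nat.card (centralizer ({y} : Set Spor.HN)) = 420 := by
  obtain ⟨y, K, hy, -, -, hyc⟩ := Cfsg.Agent.H845.HNSeven.hn_seven
  exact ⟨y, hy, hyc⟩

theorem eleven : ∃ y : Spor.HN, orderOf y = 11 ∧ Nat.card (centralizer ({y} : Set Spor.HN)) = 22 :=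
  ⟨_, Cfsg.Agent.H710.Spor.HNMix.orderOf_ψx, Cfsg.Agent.H704.Spor49.Harada.card_cent⟩

theorem p37 : ¬ Dom ({3, 7} : Set ℕ) Spor.HN := by
  have := hfin
  have := hs
  obtain ⟨x, hx, hcx⟩ := seven
  exact nd_cent (a := 6) Nat.prime_three (by norm_num) (by norm_num) hc hx hcx (by decide +kernel)

theorem p3_11 : ¬ Dom ({3, 11} : Set ℕ) Spor.HN := by
  have := hfin
  have := hs
  obtain ⟨x, hx, hcx⟩ := eleven
  exact nd_cent (a := 6) Nat.prime_three (by norm_num) (by norm_num) hc hx hcx (by decide +kernel)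

theorem p57 : ¬ Dom ({5, 7} : Set ℕ) Spor.HN := by
  have := hfin
  have := hs
  obtain ⟨x, hx, hcx⟩ := seven
  exact nd_cent (a := 6) Nat.prime_five (by norm_num) (by norm_num) hc hx hcx (by decide +kernel)

end HNRow

theorem no_hn_3_7 (h : Spor.IsoHN S) : ¬ Dom ({3, 7} : Set ℕ) S := by
  obtain ⟨e⟩ := h
  exact fun hD => HNRow.p37 (dom_equiv e hD)

theorem no_hn_3_11 (h : Spor.IsoHN S) : ¬ Dom ({3, 11} : Set ℕ) S := by
  obtain ⟨e⟩ := h
  exact fun hD => HNRow.p3_11 (dom_equiv e hD)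

theorem no_hn_5_7 (h : Spor.IsoHN S) : ¬ Dom ({5, 7} : Set ℕ) S := by
  obtain ⟨e⟩ := h
  exact fun hD => HNRow.p57 (dom_equiv e hD)

end Cfsg.Agent.H469.RM
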