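import Cfsg.Agent.H180.RM.Orb
import Cfsg.Agent.H647.SpF.HSMcL
import Cfsg.Agent.H436.HeFive
import Cfsg.Agent.H555.Hall.HNFiveB
import Cfsg.Agent.NotCT.Orders

/-!
# S3849, P11: `HS` (3,5), `He` (3,5), `HN` (3,5) (helper469)
-/

set_option autoImplicit false
set_option maxRecDepth 100000

namespace Cfsg.Agent.H469.RM

open Cfsg Subgroup Cfsg.Agent.H571.DExt Cfsg.Agent.H555.RV Cfsg.Agent.H464.RM

universe u

variable {S : Type u} [Group S] [Finite S]

theorem hs35 : ¬ Dom ({3, 5} : Set ℕ) Spor.HS := by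
  have := H647.SpF.HS.finite
  refine nd_of (H180.RM.no_orb (s := 3) (t := 5) (a := 2) (b := 3) (m := 39424) (w := 0) (by norm_num) (by norm_num)
    (by norm_num) (by rw [H647.SpF.HS.card]; norm_num) (by norm_num) (by norm_num) ?_ (by norm_num) (by norm_num) ?_)
  · intro k h1 h2
    interval_cases k <;> norm_num
  · intro y hy hd
    have h := hd.trans (H647.SpF.HS.five hy)
    norm_num at h

theorem no_hs_3_5 (h : Spor.IsoHS S) : ¬ Dom ({3, 5} : Set ℕ) S := by
  obtain ⟨e⟩ := h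
  exact fun hD => hs35 (dom_equiv e hD)

theorem card_he : Nat.card Spor.He = 4030387200 := NotCT.Orders.he ⟨MulEquiv.refl _⟩

theorem he35 : ¬ Dom ({3, 5} : Set ℕ) Spor.He := by
  have := H436.HeFive.finite_he
  refine nd_of (H180.RM.no_orb (s := 3) (t := 5) (a := 3) (b := 2) (m := 5970944) (w := 1) (by norm_num) (by norm_num)
    (by norm_num) (by rw [card_he]; norm_num) (by norm_num) (by norm_num) ?_ (by norm_num) (by norm_num) ?_)
  · intro k h1 h2
    interval_cases k <;> norm_num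
  · intro y hy hd
    have h := hd.trans (H436.HeFive.cent5 y hy)
    norm_num at h

theorem no_he_3_5 (h : Spor.IsoHe S) : ¬ Dom ({3, 5} : Set ℕ) S := by
  obtain ⟨e⟩ := h
  exact fun hD => he35 (dom_equiv e hD)

/-- the 3-parts of `5 ^ k - 1` -/
def w3 (k : ℕ) : ℕ := if k = 6 then 2 else if k % 2 = 0 then 1 else 0

theorem hw3 : ∀ k, 1 ≤ k → k ≤ 6 → ¬ 3 ^ (w3 k + 1) ∣ 5 ^ k - 1 := by
  intro k h1 h2
  interval_cases k <;> decide +kernel

theorem hn35 : ¬ Dom ({3, 5} : Set ℕ) Spor.HN := by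
  have hfin : Finite Spor.HN := Cfsg.Agent.KFacts.HN.finite_HN
  rw [Set.pair_comm]
  refine nd_of (no_gl (s := 5) (t := 3) (a := 6) (b := 6) (m := 23969792) Nat.prime_five Nat.prime_three (by norm_num)
    (by rw [Cfsg.Agent.KFacts.HN.Classes.card_HN]; norm_num) (by norm_num) (by norm_num) ?_ w3 hw3 (by decide))
  refine H555.Hall.HNFive.inv1_five (b := 6) (by norm_num) (by norm_num) (by norm_num) (by norm_num) ?_
  intro k h1 h2
  interval_cases k <;> norm_num

theorem no_hn_3_5 (h : Spor.IsoHN S) : ¬ Dom ({3, 5} : Set ℕ) S := by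
  obtain ⟨e⟩ := h
  exact fun hD => hn35 (dom_equiv e hD)

end Cfsg.Agent.H469.RM
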