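import Cfsg.Agent.H464.RM.AsmBase
import Cfsg.Agent.H171.RV.Sol
import Cfsg.Agent.NotCT.Orders
import Cfsg.Agent.H841.PiBS.HNRow
import Cfsg.Agent.H180.RV.Five
import Cfsg.Agent.H171.RV.NoTwoA
import Cfsg.Agent.H469.RM.Cent
import Cfsg.Agent.H469.RM.Orb
import Cfsg.Agent.H171.RM.HNFiveEleven

/-!
# S3849, P11: `Her` for `HN` (helper469)
-/

set_option autoImplicit false
set_option linter.unusedSectionVars false

namespace Cfsg.Agent.H469.RM

open Cfsg Cfsg.Agent.H571.DExt Cfsg.Agent.H571.RV Cfsg.Agent.H571.RM Cfsg.Agent.H171.RV.SzHall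

universe u

variable {S : Type u} [Group S] [Finite S] [hs : IsSimpleGroup S] {π : Set ℕ}

theorem her_hn (h : Spor.IsoHN S) : Her π S := by
  have hc := NotCT.Orders.hn h
  refine H464.RM.her_of_data hc [2, 3, 5, 7, 11, 19] (by norm_num) 21 (by norm_num) [(3, 5), (3, 7), (3, 11), (5, 7), (5, 11)] (by decide +kernel)
    (fun h2 h3 hD => H841.PiBS.HN.row_HN h h2 h3 (H464.RM.dc_of_dom hD))
    (fun _ h3 _ => H171.RV.Sol.sol_of hc (H171.RV.Sol.szc_one (by norm_num) (by norm_num [szc]) (by norm_num [szc])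
      (by norm_num [szc])) (by norm_num) (by norm_num) h3) ?_ ?_
  · intro p hp h5 hpd
    rw [hc] at hpd
    have hm := H464.RM.mem_primes hp hpd [2, 3, 5, 7, 11, 19] (by norm_num) 21 (by norm_num)
    simp only [List.mem_cons, List.not_mem_nil, or_false] at hm
    rcases hm with rfl | rfl | rfl | rfl | rfl | rfl
    · omega
    · omega
    · exact H180.RV.no2_hn_5 h
    · exact H171.RV.NoTwo.no2_hn_7 h
    · exact H171.RV.NoTwo.no2_hn_11 h
    · exact H171.RV.NoTwo.no2_hn_19 h
  · intro p hp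
    simp only [List.mem_cons, List.not_mem_nil, or_false] at hp
    rcases hp with rfl | rfl | rfl | rfl | rfl
    · exact no_hn_3_5 h
    · exact no_hn_3_7 h
    · exact no_hn_3_11 h
    · exact no_hn_5_7 h
    · exact H171.RM.no_hn_5_11 h

end Cfsg.Agent.H469.RM
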