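import Cfsg.Agent.H464.RM.AsmBase
import Cfsg.Agent.H171.RV.Sol
import Cfsg.Agent.NotCT.Orders
import Cfsg.Agent.H543.PiBS.M11
import Cfsg.Agent.H841.PiBS.Rows
import Cfsg.Agent.H543.RM.Math
import Cfsg.Agent.H171.RV.MJ
import Cfsg.Agent.H171.RV.NoTwoD
import Cfsg.Agent.H180.RV.Self

/-!
# S3849, P11: `Her` for `M11`, `M12`, `M22`, `M23`, `M24` (helper469)
-/

set_option autoImplicit false
set_option linter.unusedSectionVars false

namespace Cfsg.Agent.H469.RM

open Cfsg Cfsg.Agent.H571.DExt Cfsg.Agent.H571.RV Cfsg.Agent.H571.RM Cfsg.Agent.H171.RV.SzHall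

universe u

variable {S : Type u} [Group S] [Finite S] [hs : IsSimpleGroup S] {π : Set ℕ}

theorem her_m11 (h : Spor.IsoM11 S) : Her π S := by
  have hc := NotCT.Orders.m11 h
  refine H464.RM.her_of_data hc [2, 3, 5, 11] (by norm_num) 21 (by norm_num) [] (by decide +kernel)
    (fun h2 h3 hD => H543.PiBS.row_M11 h h2 h3 (H464.RM.dc_of_dom hD))
    (fun _ h3 _ => H171.RV.Sol.sol_of hc (H171.RV.Sol.szc_one (by norm_num) (by norm_num [szc]) (by norm_num [szc])
      (by norm_num [szc])) (by norm_num) (by norm_num) h3) ?_ ?_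
  · intro p hp h5 hpd
    rw [hc] at hpd
    have hm := H464.RM.mem_primes hp hpd [2, 3, 5, 11] (by norm_num) 21 (by norm_num)
    simp only [List.mem_cons, List.not_mem_nil, or_false] at hm
    rcases hm with rfl | rfl | rfl | rfl
    · omega
    · omega
    · exact H543.RM.no2_m11_5 h
    · exact H543.RM.no2_m11_11 h
  · exact fun p hp => absurd hp List.not_mem_nil

theorem her_m12 (h : Spor.IsoM12 S) : Her π S := by
  have hc := NotCT.Orders.m12 h
  refine H464.RM.her_of_data hc [2, 3, 5, 11] (by norm_num) 21 (by norm_num) [] (by decide +kernel)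
    (fun h2 h3 hD => H543.PiBS.row_M12 h h2 h3 (H464.RM.dc_of_dom hD))
    (fun _ h3 _ => H171.RV.Sol.sol_of hc (H171.RV.Sol.szc_one (by norm_num) (by norm_num [szc]) (by norm_num [szc])
      (by norm_num [szc])) (by norm_num) (by norm_num) h3) ?_ ?_
  · intro p hp h5 hpd
    rw [hc] at hpd
    have hm := H464.RM.mem_primes hp hpd [2, 3, 5, 11] (by norm_num) 21 (by norm_num)
    simp only [List.mem_cons, List.not_mem_nil, or_false] at hm
    rcases hm with rfl | rfl | rfl | rfl
    · omega
    · omega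
    · exact H171.RV.NoTwo.no2_m12_5 h
    · exact H180.RV.no2_m12_11 h
  · exact fun p hp => absurd hp List.not_mem_nil

theorem her_m22 (h : Spor.IsoM22 S) : Her π S := by
  have hc := NotCT.Orders.m22 h
  refine H464.RM.her_of_data hc [2, 3, 5, 7, 11] (by norm_num) 21 (by norm_num) [] (by decide +kernel)
    (fun h2 h3 hD => H841.PiBS.Rows.good_m22 h2 h3 h (H464.RM.dc_of_dom hD))
    (fun _ h3 _ => H171.RV.Sol.sol_of hc (H171.RV.Sol.szc_one (by norm_num) (by norm_num [szc]) (by norm_num [szc])
      (by norm_num [szc])) (by norm_num) (by norm_num) h3) ?_ ?_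
  · intro p hp h5 hpd
    rw [hc] at hpd
    have hm := H464.RM.mem_primes hp hpd [2, 3, 5, 7, 11] (by norm_num) 21 (by norm_num)
    simp only [List.mem_cons, List.not_mem_nil, or_false] at hm
    rcases hm with rfl | rfl | rfl | rfl | rfl
    · omega
    · omega
    · exact H171.RV.NoTwo.no2_m22_5 h
    · exact H171.RV.NoTwo.no2_m22_7 h
    · exact H171.RV.NoTwo.no2_m22_11 h
  · exact fun p hp => absurd hp List.not_mem_nil

theorem her_m23 (h : Spor.IsoM23 S) : Her π S := by
  have hc := NotCT.Orders.m23 h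
  refine H464.RM.her_of_data hc [2, 3, 5, 7, 11, 23] (by norm_num) 21 (by norm_num) [] (by decide +kernel)
    (fun h2 h3 hD => H841.PiBS.Rows.good_m23 h2 h3 h (H464.RM.dc_of_dom hD))
    (fun _ h3 _ => H171.RV.Sol.sol_of hc (H171.RV.Sol.szc_one (by norm_num) (by norm_num [szc]) (by norm_num [szc])
      (by norm_num [szc])) (by norm_num) (by norm_num) h3) ?_ ?_
  · intro p hp h5 hpd
    rw [hc] at hpd
    have hm := H464.RM.mem_primes hp hpd [2, 3, 5, 7, 11, 23] (by norm_num) 21 (by norm_num)
    simp only [List.mem_cons, List.not_mem_nil, or_false] at hm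
    rcases hm with rfl | rfl | rfl | rfl | rfl | rfl
    · omega
    · omega
    · exact H543.RM.no2_m23_5 h
    · exact H543.RM.no2_m23_7 h
    · exact H543.RM.no2_m23_11 h
    · exact H543.RM.no2_m23_23 h
  · exact fun p hp => absurd hp List.not_mem_nil

theorem her_m24 (h : Spor.IsoM24 S) : Her π S := by
  have hc := NotCT.Orders.m24 h
  refine H464.RM.her_of_data hc [2, 3, 5, 7, 11, 23] (by norm_num) 21 (by norm_num) [] (by decide +kernel)
    (fun h2 h3 hD => H841.PiBS.Rows.good_m24 h2 h3 h (H464.RM.dc_of_dom hD))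
    (fun _ h3 _ => H171.RV.Sol.sol_of hc (H171.RV.Sol.szc_one (by norm_num) (by norm_num [szc]) (by norm_num [szc])
      (by norm_num [szc])) (by norm_num) (by norm_num) h3) ?_ ?_
  · intro p hp h5 hpd
    rw [hc] at hpd
    have hm := H464.RM.mem_primes hp hpd [2, 3, 5, 7, 11, 23] (by norm_num) 21 (by norm_num)
    simp only [List.mem_cons, List.not_mem_nil, or_false] at hm
    rcases hm with rfl | rfl | rfl | rfl | rfl | rfl
    · omega
    · omega
    · exact H543.RM.no2_m24_5 h
    · exact H543.RM.no2_m24_7 h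
    · exact H543.RM.no2_m24_11 h
    · exact H543.RM.no2_m24_23 h
  · exact fun p hp => absurd hp List.not_mem_nil

end Cfsg.Agent.H469.RM
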