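import Cfsg.Agent.H469.RM.SuzT
import Cfsg.Agent.H489.Cyc.SuzThree
import Cfsg.Agent.H474.Suz13.Main
import Cfsg.Agent.H647.SpF.HSMcL
import Cfsg.Agent.H171.Odd.CoRowsB
import Cfsg.Agent.NotCT.Orders

/-!
# S3849, P11: `Suz` (3,13) (helper469)
-/

set_option autoImplicit false

namespace Cfsg.Agent.H469.RM

open Subgroup Cfsg Cfsg.Agent.H571.DExt Cfsg.Agent.H988.CPi Cfsg.Agent.H555.RV Cfsg.Agent.Solvable.SZ
  Cfsg.Agent.H464.RM
open Cfsg.Agent.H171.Odd (Inv1 not_dvd_index_map card_pgroup card_sylow card_dvd_kernel)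
open Cfsg.Agent.H555.PiBS (fix_card)
open scoped Pointwise

universe u

variable {S : Type u} [Group S]

/-- the structure of a Hall {3,13}-subgroup of order `3 ^ 7 * 13` -/
theorem exists_struct [Finite S] {m : ℕ} (hS : Nat.card S = 3 ^ 7 * 13 ^ 1 * m) (h2 : ¬ 3 ∣ m) (hm : ¬ 13 ∣ m)
    (hI : Inv1 3 13 S) (hC13 : ∀ x : S, orderOf x = 13 → ¬ 3 ∣ Nat.card (centralizer ({x} : Set S)))
    {K : Subgroup S} (hK : IsPiHall ({3, 13} : Set ℕ) K) :
    ∃ (Q P : Subgroup S) (x : S), Nat.card Q = 3 ^ 6 ∧ Nat.card P = 3 ^ 7 ∧ Q ≤ P ∧ P ≤ normalizer (Q : Set S) ∧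
      x ∈ normalizer (Q : Set S) ∧ orderOf x = 13 ∧ (∀ y ∈ Q, x * y = y * x → y = 1) ∧
      ∀ a ∈ P, a ∉ Q → ∃ l : ℕ, ¬ 13 ∣ l ∧ ∃ q ∈ Q, a * x * a⁻¹ * x⁻¹ = x ^ l * q := by
  have hs : Nat.Prime 3 := Nat.prime_three
  have ht : Nat.Prime 13 := by norm_num
  have hst : (3 : ℕ) ≠ 13 := by norm_num
  have hfs : Fact (Nat.Prime 3) := ⟨hs⟩
  have hft : Fact (Nat.Prime 13) := ⟨ht⟩
  obtain ⟨Q', h⟩ := exists_HQ (a := 7) (b := 1) hs ht hst hS h2 hm hI hK
  have hcK : Nat.card K = 3 ^ 7 * 13 ^ 1 := h.card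
  have hsol : Group.IsSolvable K := S0144.result 3 13 7 1 hs ht hcK
  set Q0 : Subgroup K := pCore 3 K with hQ0
  have hQ0n : Q0.Normal := Lib.Cores.pCore_normal 3
  have hQ0p : IsPGroup 3 Q0 := Lib.Cores.pCore_isPGroup 3
  -- elements of order 13 have no fixed points
  obtain ⟨x, hx⟩ := exists_prime_orderOf_dvd_card' (G := K) 13 (by rw [hcK, pow_one]; exact dvd_mul_left _ _)
  have hxS : orderOf (x : S) = 13 := by rw [Subgroup.orderOf_coe, hx]
  have hfp : ∀ y ∈ Q0, x * y = y * x → y = 1 := by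
    intro y hy hxy
    by_contra hy1
    apply hC13 x hxS
    have h8 : orderOf (y : S) = orderOf y := Subgroup.orderOf_coe y
    obtain ⟨k, hk⟩ := hQ0p ⟨y, hy⟩
    have hk' : y ^ 3 ^ k = 1 := congrArg Subtype.val hk
    obtain ⟨i, -, hi⟩ := (Nat.dvd_prime_pow hs).1 (orderOf_dvd_of_pow_eq_one hk')
    have h9 : 3 ∣ orderOf (y : S) := by
      rw [h8, hi]
      rcases Nat.eq_zero_or_pos i with h10 | h10
      · rw [h10, pow_zero, orderOf_eq_one_iff] at hi
        exact absurd hi hy1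
      · exact dvd_pow_self 3 (by omega)
    refine h9.trans (Subgroup.orderOf_dvd_natCard _ ?_)
    rw [mem_centralizer_singleton_iff]
    exact (congrArg Subtype.val hxy).symm
  have hcG : Nat.card (K ⧸ Q0) * Nat.card Q0 = 3 ^ 7 * 13 := by
    rw [← pow_one 13, ← hcK]; exact (Subgroup.card_eq_card_quotient_mul_card_subgroup Q0).symm
  have hGd : Nat.card (K ⧸ Q0) ∣ 3 ^ 7 * 13 := ⟨_, hcG.symm⟩
  -- the quotient
  have hsolG : Group.IsSolvable (K ⧸ Q0) := inferInstance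
  have hGs : pCore 3 (K ⧸ Q0) = ⊥ := Lib.Cores.pCore_quotient_pCore 3
  have hGt : pPrimeCore 13 (K ⧸ Q0) = ⊥ := by
    have h3 := Lib.Cores.pPrimeCore_coprime (G := K ⧸ Q0) 13
    have h4 : Nat.card (pPrimeCore 13 (K ⧸ Q0)) ∣ 3 ^ 7 := by
      have h5 : Nat.card (pPrimeCore 13 (K ⧸ Q0)) ∣ 3 ^ 7 * 13 := (card_subgroup_dvd_card _).trans hGd
      exact Nat.Coprime.dvd_of_dvd_mul_right h3 h5
    have h5 : IsPGroup 3 (pPrimeCore 13 (K ⧸ Q0)) := by
      obtain ⟨k, -, hk⟩ := (Nat.dvd_prime_pow hs).1 h4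
      exact IsPGroup.of_card hk
    have h6 := Lib.Cores.le_pCore (Lib.Cores.pPrimeCore_normal 13) h5
    rw [hGs] at h6
    exact le_bot_iff.1 h6
  have hC := Lib.HallHigman.centralizer_pCore_le_of_solvable (G := K ⧸ Q0) 13 hGt
  obtain ⟨k, hk⟩ := (Lib.Cores.pCore_isPGroup (G := K ⧸ Q0) 13).exists_card_eq
  have hk1 : k ≤ 1 := by
    have h3 : 13 ^ k ∣ 3 ^ 7 * 13 := by rw [← hk]; exact (card_subgroup_dvd_card _).trans hGd
    have h4 : 13 ^ k ∣ 13 ^ 1 := by
      rw [pow_one]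
      exact Nat.Coprime.dvd_of_dvd_mul_left (Nat.Coprime.pow _ _ (by norm_num)) h3
    exact (Nat.pow_dvd_pow_iff_le_right (by norm_num)).1 h4
  have htQ : ¬ 13 ∣ Nat.card Q0 := by
    obtain ⟨l, hl⟩ := hQ0p.exists_card_eq
    rw [hl]
    exact fun h => hst ((Nat.prime_dvd_prime_iff_eq ht hs).1 (ht.dvd_of_dvd_pow h)).symm
  have hk0 : k ≠ 0 := by
    rintro rfl
    rw [pow_zero, card_eq_one] at hk
    rw [hk] at hC
    have h3 : (⊤ : Subgroup (K ⧸ Q0)) ≤ ⊥ := by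
      refine le_trans ?_ hC
      intro x _
      rw [mem_centralizer_iff]
      intro y hy
      have : y = 1 := mem_bot.1 hy
      subst this
      simp
    have h4 : Nat.card (K ⧸ Q0) = 1 := by
      rw [← card_top, le_bot_iff.1 h3, card_bot]
    rw [h4, one_mul] at hcG
    exact htQ (hcG ▸ dvd_mul_left 13 _)
  have hk2 : k = 1 := by omega
  rw [hk2, pow_one] at hk
  set T : Subgroup (K ⧸ Q0) := pCore 13 (K ⧸ Q0) with hT
  have hTn : T.Normal := Lib.Cores.pCore_normal 13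
  have hTp : IsPGroup 13 T := Lib.Cores.pCore_isPGroup 13
  -- the order of `Q0`
  have hcQ : Nat.card Q0 = 3 ^ 6 := by
    obtain ⟨i, hi⟩ := hQ0p.exists_card_eq
    have hi7 : i ≤ 7 := by
      have h3 : 3 ^ i ∣ 3 ^ 7 * 13 := ⟨Nat.card (K ⧸ Q0), by rw [← hi, mul_comm (Nat.card Q0)]; exact hcG.symm⟩
      exact (Nat.pow_dvd_pow_iff_le_right (by norm_num)).1 (Nat.Coprime.dvd_of_dvd_mul_right
        (Nat.Coprime.pow_left _ (by norm_num)) h3)
    have h4 := fix_card ht (by rw [← hx]; exact pow_orderOf_eq_one x) Q0 (by rw [normalizer_eq_top]; exact mem_top x)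
    have h5 : (Q0 ⊓ centralizer {x} : Subgroup K) = ⊥ := by
      rw [eq_bot_iff]
      rintro y ⟨hy, hyx⟩
      exact mem_bot.2 (hfp y hy (mem_centralizer_singleton_iff.1 hyx).symm)
    rw [h5, card_bot, hi] at h4
    -- the Sylow 3-subgroup of the quotient
    obtain ⟨R⟩ : Nonempty (Sylow 3 (K ⧸ Q0)) := inferInstance
    have hR := card_dvd_kernel (s := 3) (t := 13) (b := 1) hst (by
      intro h6
      have h7 := h6.trans hGd
      norm_num at h7) (fun _ => 1) (by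
      intro k h1 h2
      obtain rfl : k = 1 := by omega
      norm_num) hTp 1 (R : Subgroup (K ⧸ Q0)) R.isPGroup' (by
        rw [normalizer_eq_top]
        exact le_top) (by
      intro k j hk' _
      have : k = 1 := by
        apply Nat.pow_right_injective (le_refl 2 |>.trans (by norm_num : 2 ≤ 13))
        show 13 ^ k = 13 ^ 1
        rw [← hk', hk, pow_one]
      omega)
    have h6 : ((R : Subgroup (K ⧸ Q0)) ⊓ centralizer (T : Set (K ⧸ Q0)) : Subgroup (K ⧸ Q0)) = ⊥ := by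
      rw [eq_bot_iff]
      rintro c ⟨hcR, hcC⟩
      have h7 : c ∈ T := hC hcC
      obtain ⟨j, hj⟩ := R.isPGroup' ⟨c, hcR⟩
      have hj : c ^ 3 ^ j = 1 := congrArg Subtype.val hj
      have h8 : orderOf c ∣ 13 := by rw [← hk]; exact Subgroup.orderOf_dvd_natCard _ h7
      have h9 : orderOf c ∣ 1 := by
        have h10 : Nat.Coprime (3 ^ j) 13 := Nat.Coprime.pow_left _ (by norm_num)
        have h11 := Nat.dvd_gcd (orderOf_dvd_of_pow_eq_one hj) h8
        rwa [h10] at h11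
      rw [Nat.dvd_one, orderOf_eq_one_iff] at h9
      exact mem_bot.2 h9
    rw [h6, card_bot, one_mul] at hR
    have h7 : 3 ^ (7 - i) ∣ Nat.card (R : Subgroup (K ⧸ Q0)) := by
      apply R.pow_dvd_card_of_pow_dvd_card
      rw [hi] at hcG
      refine ⟨13, ?_⟩
      apply Nat.eq_of_mul_eq_mul_right (pow_pos (by norm_num : 0 < 3) i)
      rw [hcG, mul_right_comm, ← pow_add, Nat.sub_add_cancel hi7]
    have h8 : 3 ^ (7 - i) ∣ 3 ^ 1 := h7.trans (by simpa using hR)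
    have h9 := (Nat.pow_dvd_pow_iff_le_right (by norm_num : 1 < 3)).1 h8
    have h10 : i ≠ 7 := by
      rintro rfl
      unfold Nat.ModEq at h4
      norm_num at h4
    rw [hi, show i = 6 by omega]
  have hcG' : Nat.card (K ⧸ Q0) = 39 := by
    rw [hcQ] at hcG
    omega
  -- the image of `x`
  set y : K ⧸ Q0 := (x : K ⧸ Q0) with hy
  have hy13 : y ^ 13 = 1 := by
    rw [hy, ← QuotientGroup.mk_pow, ← hx, pow_orderOf_eq_one]
    rfl
  have hyT : y ∈ T := by
    have h1 := T.card_mul_index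
    rw [hk, hcG'] at h1
    have h3 : T.index = 3 := by omega
    have h4 := T.pow_index_mem y
    rw [h3] at h4
    have h5 : y = (y ^ 3) ^ 9 := by
      rw [← pow_mul, show 3 * 9 = 13 * 2 + 1 by norm_num, pow_succ, pow_mul, hy13, one_pow, one_mul]
    rw [h5]
    exact pow_mem h4 9
  have hy1 : y ≠ 1 := by
    intro h1
    have h3 : x ∈ Q0 := (QuotientGroup.eq_one_iff x).1 h1
    have h4 := Subgroup.orderOf_dvd_natCard _ h3
    rw [hx] at h4
    exact htQ h4
  have hyo : orderOf y = 13 := orderOf_eq_prime hy13 hy1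
  have hTy : T = zpowers y := by
    symm
    apply eq_of_le_of_card_ge (zpowers_le.2 hyT)
    rw [hk, Nat.card_zpowers, hyo]
  -- the Sylow subgroup
  obtain ⟨P⟩ : Nonempty (Sylow 3 K) := inferInstance
  have hPc : Nat.card (P : Subgroup K) = 3 ^ 7 := card_sylow_of P (b := 7) (n := 13) (by rw [hcK, pow_one]) (by norm_num)
  have hQP : Q0 ≤ (P : Subgroup K) := Lib.Cores.pCore_le_sylow P
  refine ⟨Q0.map K.subtype, (P : Subgroup K).map K.subtype, x, ?_, ?_, map_mono hQP, ?_, ?_, hxS, ?_, ?_⟩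
  · rw [card_map_of_injective (subtype_injective K), hcQ]
  · rw [card_map_of_injective (subtype_injective K), hPc]
  · rintro _ ⟨g, -, rfl⟩
    apply mem_normalizer_fintype
    rintro _ ⟨z, hz, rfl⟩
    exact ⟨g * z * g⁻¹, hQ0n.conj_mem z hz _, by simp⟩
  · apply mem_normalizer_fintype
    rintro _ ⟨z, hz, rfl⟩
    exact ⟨x * z * x⁻¹, hQ0n.conj_mem z hz _, by simp⟩
  · rintro _ ⟨z, hz, rfl⟩ hxz
    rw [hfp z hz (Subtype.ext hxz), map_one]
  · rintro _ ⟨a, ha, rfl⟩ haQ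
    have haQ0 : a ∉ Q0 := fun h => haQ ⟨a, h, rfl⟩
    set b : K ⧸ Q0 := (a : K ⧸ Q0) with hb
    have hb1 : b ≠ 1 := fun h1 => haQ0 ((QuotientGroup.eq_one_iff a).1 h1)
    have h1 : b * y * b⁻¹ * y⁻¹ ∈ T := T.mul_mem (hTn.conj_mem y hyT b) (T.inv_mem hyT)
    rw [hTy] at h1
    obtain ⟨l, hl⟩ := mem_powers_iff_mem_zpowers.2 h1
    refine ⟨l, ?_, x⁻¹ ^ l * (a * x * a⁻¹ * x⁻¹), ?_, ?_⟩
    · rintro ⟨l', rfl⟩
      have h3 : b * y * b⁻¹ * y⁻¹ = 1 := by
        have h4 : y ^ (13 * l') = b * y * b⁻¹ * y⁻¹ := hl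
        rw [← h4, pow_mul, hy13, one_pow]
      have h4 : Commute b y := by
        have h5 := mul_inv_eq_one.1 h3
        exact mul_inv_eq_iff_eq_mul.1 h5
      have h5 : b ∈ T := by
        apply hC
        rw [mem_centralizer_iff]
        intro z hz
        rw [hTy] at hz
        obtain ⟨n, rfl⟩ := mem_zpowers_iff.1 (SetLike.mem_coe.1 hz)
        exact (h4.zpow_right n).eq.symm
      apply hb1
      obtain ⟨j, hj⟩ := P.isPGroup' ⟨a, ha⟩
      have hj : a ^ 3 ^ j = 1 := congrArg Subtype.val hj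
      have hj' : b ^ 3 ^ j = 1 := by
        rw [hb, ← QuotientGroup.mk_pow, hj]
        rfl
      have h8 : orderOf b ∣ 13 := by rw [← hk]; exact Subgroup.orderOf_dvd_natCard _ h5
      have h9 : orderOf b ∣ 1 := by
        have h10 : Nat.Coprime (3 ^ j) 13 := Nat.Coprime.pow_left _ (by norm_num)
        have h11 := Nat.dvd_gcd (orderOf_dvd_of_pow_eq_one hj') h8
        rwa [h10] at h11
      rwa [Nat.dvd_one, orderOf_eq_one_iff] at h9
    · refine ⟨x⁻¹ ^ l * (a * x * a⁻¹ * x⁻¹), ?_, by simp⟩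
      rw [SetLike.mem_coe, ← QuotientGroup.eq_one_iff]
      show y⁻¹ ^ l * (b * y * b⁻¹ * y⁻¹) = 1
      have h4 : y ^ l = b * y * b⁻¹ * y⁻¹ := hl
      rw [← h4, inv_pow, inv_mul_cancel]
    · simp [mul_assoc]

namespace SuzRow13

open Cfsg.Agent.SuzThree.Basic Cfsg.Agent.SuzThree.Elts Cfsg.Agent.SuzThree.Elementary
  Cfsg.Agent.SuzThree.NormElts Cfsg.Agent.SuzThree.FourTrans Cfsg.Agent.SuzThree.NormAct
open Cfsg.Agent.H489.Cyc.SuzG.Three (A0_mem card_Q pow_nine)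

theorem hc : Nat.card Spor.Suz = 448345497600 := NotCT.Orders.suz ⟨MulEquiv.refl _⟩

theorem hfin : Finite Spor.Suz := Nat.finite_of_card_ne_zero (by rw [hc]; norm_num)

/-- the Sylow 3-subgroup -/
noncomputable def P0 : Subgroup Spor.Suz := H489.Cyc.SuzG.Three.Q.map NA.subtype

theorem isP : IsPGroup 3 P0 := by
  rintro ⟨g, n, hn, rfl⟩
  exact ⟨2, Subtype.ext (pow_nine hn)⟩

theorem card_P0 : Nat.card P0 = 3 ^ 7 := by
  have := hfin
  have h3 : Fact (Nat.Prime 3) := ⟨Nat.prime_three⟩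
  have h1 : 3 ^ 7 ≤ Nat.card P0 := by
    rw [P0, ← Nat.card_congr (Subgroup.equivMapOfInjective _ _ Subtype.val_injective).toEquiv]
    exact card_Q
  obtain ⟨k, hk, hc'⟩ := card_pgroup (G := Spor.Suz) (t := 3) (b := 7) (by rw [hc]; norm_num) isP
  rw [hc'] at h1 ⊢
  have h2 := (Nat.pow_le_pow_iff_right (by norm_num : 1 < 3)).1 h1
  rw [le_antisymm hk h2]

theorem A_le : A0 ≤ P0 := fun a ha => ⟨⟨a, le_normalizer ha⟩, A0_mem ha, rfl⟩

theorem P_le : P0 ≤ normalizer (A0 : Set Spor.Suz) := map_subtype_le _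

theorem cent : centralizer (A0 : Set Spor.Suz) ≤ A0 := by
  intro c hc
  apply Cfsg.Agent.SuzThree.Kernel.mem_of_centralizes
  intro v
  exact (mem_centralizer_iff.1 hc (E v) (E_mem v)).symm

theorem cent13 {x : Spor.Suz} (hx : orderOf x = 13) : Nat.card (centralizer ({x} : Set Spor.Suz)) = 13 := by
  have := hfin
  obtain ⟨y, hy, hcy⟩ := H474.Suz13.suz_thirteen
  rw [H647.SpF.card_cent_eq_of_prime (r := 13) (m := 34488115200) (by norm_num) (by rw [hc]) (by norm_num) hx hy, hcy]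

theorem p3_13 : ¬ Dom ({3, 13} : Set ℕ) Spor.Suz := by
  have := hfin
  have h3 : Fact (Nat.Prime 3) := ⟨Nat.prime_three⟩
  refine nd_of fun K hK => ?_
  obtain ⟨Q, P, x, hQ, hP, hQP, hPQ, hxQ, hx, hfp, hcom⟩ := exists_struct (m := 15769600) (by rw [hc]; norm_num)
    (by norm_num) (by norm_num) (H171.Odd.inv_suz ⟨MulEquiv.refl _⟩).2.2.2 (by
      intro x hx
      rw [cent13 hx]
      norm_num) hK
  obtain ⟨g, hg⟩ := exists_conj_eq (s := 3) (a := 7) (n := 13 * 15769600) (by rw [hc]; norm_num) (by norm_num)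
    card_P0 hP
  have hi : Function.Injective (MulAut.conj g).toMonoidHom := (MulAut.conj g).injective
  refine no_struct (A := A0.map (MulAut.conj g).toMonoidHom) hQ hP hQP hPQ hxQ hx hfp hcom ?_ ?_ ?_ ?_ ?_
  · rw [← hg]
    exact map_mono A_le
  · rw [← hg]
    refine (map_mono P_le).trans ?_
    exact le_normalizer_map _
  · rw [card_map_of_injective hi, card_A0]
    norm_num
  · rintro _ ⟨a, ha, rfl⟩ _ ⟨b, hb, rfl⟩
    rw [← map_mul, comm_A0 ha hb, map_mul]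
  · intro h1
    have h2 : centralizer ((A0.map (MulAut.conj g).toMonoidHom : Subgroup Spor.Suz) : Set Spor.Suz) ≤
        A0.map (MulAut.conj g).toMonoidHom := by
      intro c hc
      refine ⟨g⁻¹ * c * g, ?_, ?_⟩
      · apply cent
        rw [mem_centralizer_iff]
        intro a ha
        have h3 : g * a * g⁻¹ * c = c * (g * a * g⁻¹) := mem_centralizer_iff.1 hc _ ⟨a, ha, rfl⟩
        calc a * (g⁻¹ * c * g) = g⁻¹ * (g * a * g⁻¹ * c) * g := by group
          _ = g⁻¹ * (c * (g * a * g⁻¹)) * g := by rw [h3]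
          _ = g⁻¹ * c * g * a := by group
      · show g * (g⁻¹ * c * g) * g⁻¹ = c
        group
    have h4 := h1.trans (card_dvd_of_le h2)
    rw [card_map_of_injective hi, card_A0] at h4
    norm_num at h4

end SuzRow13

theorem no_suz_3_13 {S : Type u} [Group S] [Finite S] (h : Spor.IsoSuz S) : ¬ Dom ({3, 13} : Set ℕ) S := by
  obtain ⟨e⟩ := h
  exact fun hD => SuzRow13.p3_13 (dom_equiv e hD)

end Cfsg.Agent.H469.RM
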