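import Cfsg.Agent.H464.RM.AsmBase
import Cfsg.Agent.H171.RV.Sol
import Cfsg.Agent.NotCT.Orders
import Cfsg.Agent.H422.PiSuz
import Cfsg.Agent.H171.RV.NoTwoA
import Cfsg.Agent.H171.RV.NoTwoC
import Cfsg.Agent.H469.RM.Cent
import Cfsg.Agent.H469.RM.Suz

/-!
# S3849, P11: `Her` for `Suz` (helper469)
-/

set_option autoImplicit false
set_option linter.unusedSectionVars false

namespace Cfsg.Agent.H469.RM

open Cfsg Cfsg.Agent.H571.DExt Cfsg.Agent.H571.RV Cfsg.Agent.H571.RM Cfsg.Agent.H171.RV.SzHall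

universe u

variable {S : Type u} [Group S] [Finite S] [hs : IsSimpleGroup S] {π : Set ℕ}

theorem her_suz (h : Spor.IsoSuz S) : Her π S := by
  have hc := NotCT.Orders.suz h
  refine H464.RM.her_of_data hc [2, 3, 5, 7, 11, 13] (by norm_num) 21 (by norm_num) [(3, 5), (3, 7), (3, 11), (3, 13)] (by decide +kernel)
    (fun h2 h3 hD => H422.PiSuz.row_suz h h2 h3 (H464.RM.dc_of_dom hD))
    (fun _ h3 _ => H171.RV.Sol.sol_suz h h3) ?_ ?_
  · intro p hp h5 hpd
    rw [hc] at hpd
    have hm := H464.RM.mem_primes hp hpd [2, 3, 5, 7, 11, 13] (by norm_num) 21 (by norm_num)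
    simp only [List.mem_cons, List.not_mem_nil, or_false] at hm
    rcases hm with rfl | rfl | rfl | rfl | rfl | rfl
    · omega
    · omega
    · exact H171.RV.NoTwo.no2_suz_5 h
    · exact H171.RV.NoTwo.no2_suz_7 h
    · exact H171.RV.NoTwo.no2_suz_11 h
    · exact H171.RV.NoTwo.no2_suz_13 h
  · intro p hp
    simp only [List.mem_cons, List.not_mem_nil, or_false] at hp
    rcases hp with rfl | rfl | rfl | rfl
    · exact no_suz_3_5 h
    · exact no_suz_3_7 h
    · exact no_suz_3_11 h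
    · exact no_suz_3_13 h

end Cfsg.Agent.H469.RM
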