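import Cfsg.Agent.H464.RM.AsmBase
import Cfsg.Agent.H171.RV.Sol
import Cfsg.Agent.NotCT.Orders
import Cfsg.Agent.H555.PiBS.HS
import Cfsg.Agent.H555.PiBS.McL
import Cfsg.Agent.H555.RV.HS
import Cfsg.Agent.H555.RV.McL
import Cfsg.Agent.H171.RV.NoTwoB
import Cfsg.Agent.H180.RV.Five
import Cfsg.Agent.H180.RV.Self
import Cfsg.Agent.H469.RM.Orb
import Cfsg.Agent.H469.RM.Cent

/-!
# S3849, P11: `Her` for `HS`, `McL` (helper469)
-/

set_option autoImplicit false
set_option linter.unusedSectionVars false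

namespace Cfsg.Agent.H469.RM

open Cfsg Cfsg.Agent.H571.DExt Cfsg.Agent.H571.RV Cfsg.Agent.H571.RM Cfsg.Agent.H171.RV.SzHall

universe u

variable {S : Type u} [Group S] [Finite S] [hs : IsSimpleGroup S] {π : Set ℕ}

theorem her_hs (h : Spor.IsoHS S) : Her π S := by
  have hc := NotCT.Orders.hs h
  refine H464.RM.her_of_data hc [2, 3, 5, 7, 11] (by norm_num) 21 (by norm_num) [(3, 5)] (by decide +kernel)
    (fun h2 h3 hD => H555.PiBS.HS.row_HS h h2 h3 (H464.RM.dc_of_dom hD))
    (fun _ h3 _ => H171.RV.Sol.sol_of hc (H171.RV.Sol.szc_one (by norm_num) (by norm_num [szc]) (by norm_num [szc])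
      (by norm_num [szc])) (by norm_num) (by norm_num) h3) ?_ ?_
  · intro p hp h5 hpd
    rw [hc] at hpd
    have hm := H464.RM.mem_primes hp hpd [2, 3, 5, 7, 11] (by norm_num) 21 (by norm_num)
    simp only [List.mem_cons, List.not_mem_nil, or_false] at hm
    rcases hm with rfl | rfl | rfl | rfl | rfl
    · omega
    · omega
    · exact H555.RV.no2_hs_5 h
    · exact H171.RV.NoTwo.no2_hs_7 h
    · exact H171.RV.NoTwo.no2_hs_11 h
  · intro p hp
    simp only [List.mem_cons, List.not_mem_nil, or_false] at hp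
    subst hp
    exact no_hs_3_5 h

theorem her_mcl (h : Spor.IsoMcL S) : Her π S := by
  have hc := NotCT.Orders.mcl h
  refine H464.RM.her_of_data hc [2, 3, 5, 7, 11] (by norm_num) 21 (by norm_num) [(3, 5), (3, 7), (3, 11)] (by decide +kernel)
    (fun h2 h3 hD => H555.PiBS.McL.row_McL h h2 h3 (H464.RM.dc_of_dom hD))
    (fun _ h3 _ => H171.RV.Sol.sol_of hc (H171.RV.Sol.szc_one (by norm_num) (by norm_num [szc]) (by norm_num [szc])
      (by norm_num [szc])) (by norm_num) (by norm_num) h3) ?_ ?_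
  · intro p hp h5 hpd
    rw [hc] at hpd
    have hm := H464.RM.mem_primes hp hpd [2, 3, 5, 7, 11] (by norm_num) 21 (by norm_num)
    simp only [List.mem_cons, List.not_mem_nil, or_false] at hm
    rcases hm with rfl | rfl | rfl | rfl | rfl
    · omega
    · omega
    · exact H180.RV.no2_mcl_5 h
    · exact H555.RV.no2_mcl_7 h
    · exact H180.RV.no2_mcl_11 h
  · intro p hp
    simp only [List.mem_cons, List.not_mem_nil, or_false] at hp
    rcases hp with rfl | rfl | rfl
    · exact no_mcl_3_5 h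
    · exact no_mcl_3_7 h
    · exact no_mcl_3_11 h

end Cfsg.Agent.H469.RM
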